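import Cfsg.Agent.H198.L34.HTwentyB

/-!
# S5917, type D: the part of `L₀` coming from the Steinberg modules, abstract part (helper771)

`ss_of` : three vectors `u k` of `L₀` with independent traces generate a free `K[Q₈]`-module: the structure
`SS` of helper198.
-/

set_option autoImplicit false
set_option linter.unusedSectionVars false

namespace Cfsg.Agent.H771.L34

open Module Cfsg.Agent.H633.L34.Psi Cfsg.Agent.H400.L34.QFree Cfsg.Agent.H198.L34

variable {K : Type*} [Field K] [CharP K 2] {L : Type*} [AddCommGroup L] [Module K L]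

/-- `i` on the free module -/
def Ri : (Fin 3 → Fin 8 → K) →ₗ[K] (Fin 3 → Fin 8 → K) :=
  LinearMap.pi fun k => Li ∘ₗ LinearMap.proj k

/-- `j` on the free module -/
def Rj : (Fin 3 → Fin 8 → K) →ₗ[K] (Fin 3 → Fin 8 → K) :=
  LinearMap.pi fun k => Lj ∘ₗ LinearMap.proj k

theorem Ri_apply (a : Fin 3 → Fin 8 → K) (k : Fin 3) : Ri a k = Li (a k) := rfl

theorem Rj_apply (a : Fin 3 → Fin 8 → K) (k : Fin 3) : Rj a k = Lj (a k) := rfl

theorem ql_R : QL (K := K) (M := Fin 3 → Fin 8 → K) Ri Rj where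
  sq := fun v => funext fun k => ql_reg.sq (v k)
  four := fun v => funext fun k => ql_reg.four (v k)
  comm := fun v => funext fun k => ql_reg.comm (v k)

/-- the fixed vectors of the free module -/
theorem const_of {x : Fin 8 → K} (h1 : Li x = x) (h2 : Lj x = x) (m : Fin 8) : x m = x 0 := by
  have e1 := fun k => congrFun h1 k
  have e2 := fun k => congrFun h2 k
  simp only [Li_apply, Lj_apply] at e1 e2
  have k1 : x 0 = x 1 := e1 1
  have k2 : x 1 = x 2 := e1 2
  have k3 : x 2 = x 3 := e1 3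
  have k5 : x 4 = x 5 := e1 5
  have k6 : x 5 = x 6 := e1 6
  have k7 : x 6 = x 7 := e1 7
  have k4 : x 0 = x 4 := e2 4
  fin_cases m
  · rfl
  · exact k1.symm
  · exact (k1.trans k2).symm
  · exact (k1.trans (k2.trans k3)).symm
  · exact k4.symm
  · exact (k4.trans k5).symm
  · exact (k4.trans (k5.trans k6)).symm
  · exact (k4.trans (k5.trans (k6.trans k7))).symm

/-- the map of the free module -/
def TT3 (i j : L →ₗ[K] L) (u : Fin 3 → L) : (Fin 3 → Fin 8 → K) →ₗ[K] L :=
  ∑ k, (Fintype.linearCombination K (vec i j (u k))) ∘ₗ LinearMap.proj k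

theorem TT3_apply (i j : L →ₗ[K] L) (u : Fin 3 → L) (a : Fin 3 → Fin 8 → K) :
    TT3 i j u a = ∑ k, ∑ m, a k m • vec i j (u k) m := by
  unfold TT3
  rw [LinearMap.sum_apply]
  rfl

variable {L0 : Submodule K L} {i j : L →ₗ[K] L}

section

variable (hi : ∀ x ∈ L0, i x ∈ L0) (hj : ∀ x ∈ L0, j x ∈ L0) (four : ∀ x ∈ L0, i (i (i (i x))) = x)
  (jj : ∀ x ∈ L0, j (j x) = i (i x)) (ji : ∀ x ∈ L0, j (i x) = i (i (i (j x))))

include hi hj

theorem vec_mem {x : L} (hx : x ∈ L0) (m : Fin 8) : vec i j x m ∈ L0 := by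
  have a1 := hi _ hx
  have a2 := hi _ a1
  have a3 := hi _ a2
  have b0 := hj _ hx
  have b1 := hi _ b0
  have b2 := hi _ b1
  have b3 := hi _ b2
  fin_cases m <;> assumption

include four jj ji

theorem vec_i {x : L} (hx : x ∈ L0) (a : Fin 8 → K) :
    ∑ m, (Li a) m • vec i j x m = i (∑ m, a m • vec i j x m) := by
  have h1 : i (i (i (i x))) = x := four _ hx
  have h2 : i (i (i (i (j x)))) = j x := four _ (hj _ hx)
  rw [Fin.sum_univ_eight, Fin.sum_univ_eight]
  simp only [map_add, map_smul, Li_apply]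
  show a 3 • x + a 0 • i x + a 1 • i (i x) + a 2 • i (i (i x)) + a 7 • j x + a 4 • i (j x) + a 5 • i (i (j x)) +
    a 6 • i (i (i (j x))) = a 0 • i x + a 1 • i (i x) + a 2 • i (i (i x)) + a 3 • i (i (i (i x))) + a 4 • i (j x) +
    a 5 • i (i (j x)) + a 6 • i (i (i (j x))) + a 7 • i (i (i (i (j x))))
  rw [h1, h2]
  abel

theorem vec_j {x : L} (hx : x ∈ L0) (a : Fin 8 → K) :
    ∑ m, (Lj a) m • vec i j x m = j (∑ m, a m • vec i j x m) := by
  have a1 := hi _ hx
  have a2 := hi _ a1
  have b0 := hj _ hx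
  have b1 := hi _ b0
  have b2 := hi _ b1
  have h1 : j (i x) = i (i (i (j x))) := ji _ hx
  have h2 : j (i (i x)) = i (i (j x)) := by
    rw [ji _ a1, h1, four _ b2]
  have h3 : j (i (i (i x))) = i (j x) := by
    rw [ji _ a2, h2, four _ b1]
  have h4 : j (j x) = i (i x) := jj _ hx
  have h5 : j (i (j x)) = i x := by
    rw [ji _ b0, h4, four _ a1]
  have h6 : j (i (i (j x))) = x := by
    rw [ji _ b1, h5, four _ hx]
  have h7 : j (i (i (i (j x)))) = i (i (i x)) := by
    rw [ji _ b2, h6]
  rw [Fin.sum_univ_eight, Fin.sum_univ_eight]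
  simp only [map_add, map_smul, Lj_apply]
  show a 6 • x + a 5 • i x + a 4 • i (i x) + a 7 • i (i (i x)) + a 0 • j x + a 3 • i (j x) + a 2 • i (i (j x)) +
    a 1 • i (i (i (j x))) = a 0 • j x + a 1 • j (i x) + a 2 • j (i (i x)) + a 3 • j (i (i (i x))) + a 4 • j (j x) +
    a 5 • j (i (j x)) + a 6 • j (i (i (j x))) + a 7 • j (i (i (i (j x))))
  rw [h1, h2, h3, h4, h5, h6, h7]
  abel

variable {u : Fin 3 → L} (hu : ∀ k, u k ∈ L0)

include hu

theorem TT3_i (a : Fin 3 → Fin 8 → K) : TT3 i j u (Ri a) = i (TT3 i j u a) := by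
  rw [TT3_apply, TT3_apply, map_sum]
  exact Finset.sum_congr rfl fun k _ => vec_i hi hj four jj ji (hu k) (a k)

theorem TT3_j (a : Fin 3 → Fin 8 → K) : TT3 i j u (Rj a) = j (TT3 i j u a) := by
  rw [TT3_apply, TT3_apply, map_sum]
  exact Finset.sum_congr rfl fun k _ => vec_j hi hj four jj ji (hu k) (a k)

omit hi hj four jj ji hu in
theorem TT3_const {a : Fin 3 → Fin 8 → K} (h : ∀ k m, a k m = a k 0) :
    TT3 i j u a = ∑ k, a k 0 • TrL i j (u k) := by
  rw [TT3_apply]
  refine Finset.sum_congr rfl fun k _ => ?_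
  rw [Fin.sum_univ_eight]
  rw [h k 1, h k 2, h k 3, h k 4, h k 5, h k 6, h k 7]
  rw [← smul_add, ← smul_add, ← smul_add, ← smul_add, ← smul_add, ← smul_add, ← smul_add]
  congr 1
  show u k + i (u k) + i (i (u k)) + i (i (i (u k))) + j (u k) + i (j (u k)) + i (i (j (u k))) + i (i (i (j (u k)))) = _
  unfold TrL
  abel

theorem TT3_inj (hl : LinearIndependent K fun k => TrL i j (u k)) : Function.Injective (TT3 i j u) := by
  rw [← LinearMap.ker_eq_bot]
  by_contra hne
  obtain ⟨a, ha, ha0, h1, h2⟩ := (ql_R (K := K)).exists_fix (W := LinearMap.ker (TT3 i j u))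
    (fun v hv => by
      rw [LinearMap.mem_ker] at hv ⊢
      rw [TT3_i hi hj four jj ji hu, hv, map_zero])
    (fun v hv => by
      rw [LinearMap.mem_ker] at hv ⊢
      rw [TT3_j hi hj four jj ji hu, hv, map_zero]) hne
  have hc : ∀ k m, a k m = a k 0 := fun k m => const_of (congrFun h1 k) (congrFun h2 k) m
  rw [LinearMap.mem_ker, TT3_const hc] at ha
  have h3 := Fintype.linearIndependent_iff.1 hl (fun k => a k 0) ha
  exact ha0 (funext fun k => funext fun m => (hc k m).trans (h3 k))

/-- **three vectors with independent traces** -/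
theorem ss_of (hl : LinearIndependent K fun k => TrL i j (u k)) : ∃ S : Submodule K L, SS L0 S i j ∧ ∀ k, u k ∈ S := by
  have hinj := TT3_inj hi hj four jj ji hu hl
  refine ⟨LinearMap.range (TT3 i j u), ⟨?_, ?_, ?_, ?_, ?_⟩, ?_⟩
  · rintro _ ⟨a, rfl⟩
    rw [TT3_apply]
    exact Submodule.sum_mem _ fun k _ => Submodule.sum_mem _ fun m _ => L0.smul_mem _ (vec_mem hi hj (hu k) m)
  · rintro _ ⟨a, rfl⟩
    exact ⟨Ri a, TT3_i hi hj four jj ji hu a⟩
  · rintro _ ⟨a, rfl⟩
    exact ⟨Rj a, TT3_j hi hj four jj ji hu a⟩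
  · -- the rank
    let e : (Fin 3 → Fin 4 → K) →ₗ[K] (Fin 3 → Fin 8 → K) :=
      { toFun := fun c k m => if m = 0 then c k 0 else if m = 1 then c k 1 else if m = 4 then c k 2 else
          if m = 5 then c k 3 else 0
        map_add' := fun c d => by
          funext k m
          simp only [Pi.add_apply]
          split_ifs <;> simp
        map_smul' := fun r c => by
          funext k m
          simp only [Pi.smul_apply, RingHom.id_apply, smul_eq_mul]
          split_ifs <;> simp }
    have he : ∀ c k m, e c k m = if m = 0 then c k 0 else if m = 1 then c k 1 else if m = 4 then c k 2 else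
          if m = 5 then c k 3 else 0 := fun c k m => rfl
    let G : (Fin 3 → Fin 4 → K) →ₗ[K] L := (i ∘ₗ i + 1) ∘ₗ TT3 i j u ∘ₗ e
    have hG : ∀ c, G c = TT3 i j u (Ri (Ri (e c)) + e c) := by
      intro c
      rw [map_add, TT3_i hi hj four jj ji hu, TT3_i hi hj four jj ji hu]
      rfl
    have hGi : Function.Injective G := by
      rw [← LinearMap.ker_eq_bot, LinearMap.ker_eq_bot']
      intro c hc
      rw [hG] at hc
      have h1 := hinj (hc.trans (map_zero _).symm)
      have h2 : ∀ k m, Li (Li (e c k)) m + e c k m = 0 := fun k m => congrFun (congrFun h1 k) m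
      funext k m
      have g0 := h2 k 0
      have g1 := h2 k 1
      have g4 := h2 k 4
      have g5 := h2 k 5
      simp only [Li_apply] at g0 g1 g4 g5
      have g0' : e c k 2 + e c k 0 = 0 := g0
      have g1' : e c k 3 + e c k 1 = 0 := g1
      have g4' : e c k 6 + e c k 4 = 0 := g4
      have g5' : e c k 7 + e c k 5 = 0 := g5
      simp only [he] at g0' g1' g4' g5'
      fin_cases m
      · simpa using g0'
      · simpa using g1'
      · simpa using g4'
      · simpa using g5'
    have hle : LinearMap.range G ≤ (LinearMap.range (TT3 i j u)).map (i ∘ₗ i + 1) := by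
      rintro _ ⟨c, rfl⟩
      exact ⟨TT3 i j u (e c), ⟨e c, rfl⟩, rfl⟩
    have hfin : Module.Finite K ↥((LinearMap.range (TT3 i j u)).map (i ∘ₗ i + 1)) := inferInstance
    have h1 := Submodule.finrank_mono hle
    have h2 := LinearMap.finrank_range_of_inj hGi
    have h3 : finrank K (Fin 3 → Fin 4 → K) = 12 := by
      rw [Module.finrank_pi_fintype]
      simp
    omega
  · rintro _ ⟨a, rfl⟩ h1 h2
    rw [← TT3_i hi hj four jj ji hu] at h1
    rw [← TT3_j hi hj four jj ji hu] at h2
    have e1 := hinj h1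
    have e2 := hinj h2
    have hc : ∀ k m, a k m = a k 0 := fun k m => const_of (congrFun e1 k) (congrFun e2 k) m
    refine ⟨TT3 i j u fun k m => if m = 0 then a k 0 else 0, ⟨_, rfl⟩, ?_⟩
    have e3 : TT3 i j u (fun k m => if m = 0 then a k 0 else 0) = ∑ k, a k 0 • u k := by
      rw [TT3_apply]
      refine Finset.sum_congr rfl fun k _ => ?_
      rw [Finset.sum_eq_single 0]
      · rfl
      · intro b _ hb
        rw [if_neg hb, zero_smul]
      · intro h; exact absurd (Finset.mem_univ _) h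
    rw [TT3_const hc, e3]
    unfold TrL
    simp only [map_sum, map_smul, smul_add, Finset.sum_add_distrib]
  · intro k
    refine ⟨fun k' m => if k' = k ∧ m = 0 then 1 else 0, ?_⟩
    rw [TT3_apply, Finset.sum_eq_single k]
    · rw [Finset.sum_eq_single 0]
      · rw [if_pos ⟨rfl, rfl⟩, one_smul]
        rfl
      · intro b _ hb
        rw [if_neg (fun h => hb h.2), zero_smul]
      · intro h; exact absurd (Finset.mem_univ _) h
    · intro k' _ hk
      exact Finset.sum_eq_zero fun m _ => by rw [if_neg (fun h => hk h.1), zero_smul]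
    · intro h; exact absurd (Finset.mem_univ _) h

end

end Cfsg.Agent.H771.L34
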